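import Groth.Prelude.Def_W4c2arithlefschetzGraph
import Mathlib.LinearAlgebra.Matrix.NonsingularInverse
import Mathlib.LinearAlgebra.Matrix.ToLinearEquiv
import Mathlib.Algebra.Order.BigOperators.Ring.Finset
import Mathlib.Algebra.Order.Ring.Rat

/-!
# The intersection matrix of iterated blow-ups
-/

namespace GrothLib.BlowupGr

open Finset Matrix ArLef ArLef.BlowupGraph

variable {n : ℕ} (G : BlowupGraph n)

/-- `1 - P`, `P` the proximity matrix. -/
def prox : Matrix (Fin n) (Fin n) ℚ :=
  fun m p => (if m = p then 1 else 0) - if p ∈ G.par m then 1 else 0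

/-- The total-transform matrix over `ℚ`. -/
def ttQ : Matrix (Fin n) (Fin n) ℚ := fun k m => (G.tt k m : ℚ)

theorem ttN_of_lt {k m : ℕ} (h : m < k) : G.ttN k m = 0 := by
  rw [ttN]; simp [h]

theorem ttN_self (k : ℕ) : G.ttN k k = 1 := by
  rw [ttN]; simp

theorem ttN_of_gt {k m : ℕ} (h : k < m) : G.ttN k m = ∑ p ∈ G.parN m, G.ttN k p := by
  rw [ttN]
  simp only [show ¬ m < k by omega, show ¬ m = k by omega, if_false]
  exact Finset.sum_attach _ (fun p => G.ttN k p)

theorem ttQ_mul_prox : ttQ G * (prox G)ᵀ = 1 := by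
  ext k m
  simp only [Matrix.mul_apply, Matrix.transpose_apply, prox, ttQ, mul_sub, mul_ite, mul_one, mul_zero,
    Finset.sum_sub_distrib, Finset.sum_ite_eq, Finset.mem_univ, if_true, Finset.sum_ite_mem,
    Finset.univ_inter, Matrix.one_apply, BlowupGraph.tt]
  have hpar : G.parN m.val = (G.par m).map Fin.valEmbedding := by simp [parN, m.isLt]
  rcases lt_trichotomy m.val k.val with h | h | h
  · rw [ttN_of_lt G h, if_neg (Fin.ne_of_val_ne h.ne'), Finset.sum_eq_zero fun p hp => by
      rw [ttN_of_lt G (lt_trans (show p.val < m.val from G.par_lt m p hp) h)]; simp]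
    simp
  · obtain rfl := Fin.ext h
    rw [ttN_self, if_pos rfl, Finset.sum_eq_zero fun p hp => by
      rw [ttN_of_lt G (show p.val < m.val from G.par_lt m p hp)]; simp]
    simp
  · rw [ttN_of_gt G h, hpar, Finset.sum_map, if_neg (Fin.ne_of_val_ne h.ne)]
    simp

theorem unique_meet {p q m m' : Fin n} (hpq : p < q) (hm : p ∈ G.par m ∧ q ∈ G.par m)
    (hm' : p ∈ G.par m' ∧ q ∈ G.par m') : m = m' := by
  have key : ∀ a b : Fin n, a < b → p ∈ G.par a → q ∈ G.par a → p ∈ G.par b → q ∈ G.par b → False := by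
    intro a b hab ha ha' hb hb'
    refine (G.meet_of_two b p q hb hb' hpq).2 a (G.par_lt a q ha') hab ?_
    refine (Finset.eq_of_subset_of_card_le (fun x hx => ?_) ?_).symm
    · simp only [Finset.mem_insert, Finset.mem_singleton] at hx
      rcases hx with rfl | rfl <;> assumption
    · rw [Finset.card_pair hpq.ne]; exact G.card_le_two a
  rcases lt_trichotomy m m' with h | h | h
  · exact (key m m' h hm.1 hm.2 hm'.1 hm'.2).elim
  · exact h
  · exact (key m' m h hm'.1 hm'.2 hm.1 hm.2).elim

theorem adj_lt_iff {p q : Fin n} (hpq : p < q) :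
    (if G.Adj p q then (1 : ℚ) else 0)
      = (if p ∈ G.par q then 1 else 0) - ∑ m, if p ∈ G.par m ∧ q ∈ G.par m then 1 else 0 := by
  have hqp : q ∉ G.par p := fun h => absurd (G.par_lt p q h) (not_lt.mpr hpq.le)
  by_cases hex : ∃ m, p ∈ G.par m ∧ q ∈ G.par m
  · obtain ⟨m, hm⟩ := hex
    have hp : p ∈ G.par q := (G.meet_of_two m p q hm.1 hm.2 hpq).1
    rw [if_pos hp, Finset.sum_eq_single m (fun m' _ hne => if_neg fun h => hne (unique_meet G hpq h hm))
      (by simp), if_pos hm, if_neg]
    · simp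
    rintro (h | h)
    · refine h.2 m (G.par_lt m q hm.2) ?_
      refine (Finset.eq_of_subset_of_card_le (fun x hx => ?_) ?_).symm
      · simp only [Finset.mem_insert, Finset.mem_singleton] at hx
        rcases hx with rfl | rfl
        · exact hm.1
        · exact hm.2
      · rw [Finset.card_pair hpq.ne]; exact G.card_le_two m
    · exact hqp h.1
  · push Not at hex
    rw [Finset.sum_eq_zero (fun m _ => if_neg fun h => hex m h.1 h.2), sub_zero]
    have : G.Adj p q ↔ p ∈ G.par q := by
      refine ⟨fun h => ?_, fun h => Or.inl ⟨h, fun m _ hm => ?_⟩⟩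
      · rcases h with h | h
        · exact h.1
        · exact absurd h.1 hqp
      · exact hex m (by simp [hm]) (by simp [hm])
    simp only [this]

theorem prox_mul (p q : Fin n) :
    ((prox G)ᵀ * prox G) p q = (if p = q then 1 else 0) - (if q ∈ G.par p then 1 else 0)
      - (if p ∈ G.par q then 1 else 0) + ∑ m, if p ∈ G.par m ∧ q ∈ G.par m then 1 else 0 := by
  have h : ∀ m, (prox G)ᵀ p m * prox G m q
      = (if m = p then ((if m = q then 1 else 0) - if q ∈ G.par m then 1 else 0) else 0)
        - (if m = q then (if p ∈ G.par m then 1 else 0) else 0)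
        + (if p ∈ G.par m ∧ q ∈ G.par m then 1 else 0) := fun m => by
    simp only [prox, Matrix.transpose_apply, ite_and]
    split_ifs <;> ring
  rw [Matrix.mul_apply, Finset.sum_congr rfl fun m _ => h m, Finset.sum_add_distrib,
    Finset.sum_sub_distrib]
  simp only [Finset.sum_ite_eq', Finset.mem_univ, if_true]

theorem mat_eq : G.mat = -((prox G)ᵀ * prox G) := by
  ext p q
  rw [Matrix.neg_apply, prox_mul]
  simp only [BlowupGraph.mat]
  rcases lt_trichotomy p q with h | h | h
  · rw [if_neg h.ne, adj_lt_iff G h, if_neg h.ne,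
      if_neg (c := q ∈ G.par p) fun hh => absurd (G.par_lt p q hh) (not_lt.mpr h.le)]
    ring
  · subst h
    rw [if_pos rfl, if_pos rfl,
      if_neg (c := p ∈ G.par p) fun hh => absurd (G.par_lt p p hh) (lt_irrefl _)]
    simp only [BlowupGraph.selfInt, and_self, Finset.natCast_card_filter]
    push_cast [apply_ite (Int.cast : ℤ → ℚ)]
    ring
  · have hsymm : G.Adj p q ↔ G.Adj q p := by
      unfold BlowupGraph.Adj; exact or_comm
    rw [if_neg h.ne', if_neg h.ne', if_congr hsymm rfl rfl, adj_lt_iff G h,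
      if_neg (c := p ∈ G.par q) fun hh => absurd (G.par_lt q p hh) (not_lt.mpr h.le)]
    simp only [and_comm]
    ring

theorem mult_eq : (fun i j => (G.mult i j : ℚ) : Matrix (Fin n) (Fin n) ℚ) = (ttQ G)ᵀ * ttQ G := by
  ext i j
  simp [Matrix.mul_apply, ttQ, BlowupGraph.mult]

theorem mat_mul_mult : G.mat * ((ttQ G)ᵀ * ttQ G) = -1 := by
  have h1 : (prox G)ᵀ * ttQ G = 1 := mul_eq_one_comm.mp (ttQ_mul_prox G)
  have h2 : prox G * (ttQ G)ᵀ = 1 := by
    have := congrArg Matrix.transpose (ttQ_mul_prox G)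
    rwa [Matrix.transpose_mul, Matrix.transpose_transpose, Matrix.transpose_one] at this
  rw [mat_eq, Matrix.neg_mul, Matrix.mul_assoc, ← Matrix.mul_assoc (prox G), h2, Matrix.one_mul, h1]

theorem mat_II_unit (I : Finset (Fin n)) :
    IsUnit (G.mat.submatrix (fun x : I => x.1) (fun x : I => x.1)).det := by
  rw [isUnit_iff_ne_zero]
  intro h
  obtain ⟨v, hv, hv0⟩ := Matrix.exists_mulVec_eq_zero_iff.mpr h
  let V : Fin n → ℚ := fun i => if h : i ∈ I then v ⟨i, h⟩ else 0
  have hV : ∀ f : Fin n → ℚ, ∑ i, f i * V i = ∑ x : I, f x.1 * v x := fun f => by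
    rw [← Finset.sum_subset (Finset.subset_univ I) fun i _ hi => by simp [V, hi],
      ← Finset.sum_coe_sort I]
    exact Finset.sum_congr rfl fun x _ => by simp [V, x.2]
  have hq : dotProduct V (G.mat *ᵥ V) = 0 := by
    rw [dotProduct_comm]
    show ∑ i, (G.mat *ᵥ V) i * V i = 0
    rw [hV]
    refine Finset.sum_eq_zero fun x _ => ?_
    have : (G.mat *ᵥ V) x.1 = 0 := by
      show ∑ j, G.mat x.1 j * V j = 0
      rw [hV]
      exact congrFun hv0 x
    rw [this, zero_mul]
  rw [mat_eq, Matrix.neg_mulVec, dotProduct_neg, ← Matrix.mulVec_mulVec, Matrix.dotProduct_mulVec,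
    Matrix.vecMul_transpose, neg_eq_zero] at hq
  replace hq : prox G *ᵥ V = 0 := funext fun i =>
    mul_self_eq_zero.mp ((Finset.sum_eq_zero_iff_of_nonneg fun j _ => mul_self_nonneg _).mp hq i (mem_univ i))
  have h1 : (ttQ G)ᵀ * prox G = 1 := by
    refine mul_eq_one_comm.mp ?_
    have := congrArg Matrix.transpose (ttQ_mul_prox G)
    rwa [Matrix.transpose_mul, Matrix.transpose_transpose, Matrix.transpose_one] at this
  have hV0 : V = 0 := by
    have := congrArg (fun u => (ttQ G)ᵀ *ᵥ u) hq
    simpa [Matrix.mulVec_mulVec, h1] using this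
  exact hv (funext fun x => by have := congrFun hV0 x.1; simpa [V, x.2] using this)

/-- Schur complement against inverse. -/
theorem schur_mul (I : Finset (Fin n)) (a i : Fin n) (hi : i ∉ I) :
    ∑ j ∈ univ.filter (fun j => j ∉ I), G.pairing I a j * ((ttQ G)ᵀ * ttQ G) j i
      = -(1 : Matrix (Fin n) (Fin n) ℚ) a i := by
  set M := G.mat
  set N := (ttQ G)ᵀ * ttQ G with hN
  set K := (M.submatrix (fun x : I => x.1) (fun x : I => x.1))⁻¹ with hK
  have hsplit : ∀ c, ∑ j ∈ univ.filter (fun j => j ∉ I), M c j * N j i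
      = -(1 : Matrix (Fin n) (Fin n) ℚ) c i - ∑ z : I, M c z.1 * N z.1 i := fun c => by
    have h := congrFun (congrFun (mat_mul_mult G) c) i
    rw [Matrix.mul_apply, ← Finset.sum_filter_add_sum_filter_not univ (fun j => j ∈ I),
      Finset.filter_univ_mem, ← Finset.sum_coe_sort I, Matrix.neg_apply] at h
    simp only [M, N] at h ⊢
    linarith
  have hKM : ∀ x : I, ∀ g : I → ℚ, ∑ y : I, K x y * ∑ z : I, M y.1 z.1 * g z = g x := fun x g => by
    have : K * M.submatrix (fun x : I => x.1) (fun x : I => x.1) = 1 :=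
      Matrix.nonsing_inv_mul _ (mat_II_unit G I)
    have h2 := congrFun (congrArg (fun X : Matrix I I ℚ => X *ᵥ g) this) x
    simp only [← Matrix.mulVec_mulVec, Matrix.one_mulVec] at h2
    exact h2
  have hy : ∀ y : I, ∑ j ∈ univ.filter (fun j => j ∉ I), M y.1 j * N j i
      = -∑ z : I, M y.1 z.1 * N z.1 i := fun y => by
    rw [hsplit, Matrix.one_apply_ne (fun h : y.1 = i => hi (h ▸ y.2))]; ring
  calc ∑ j ∈ univ.filter (fun j => j ∉ I), G.pairing I a j * N j i
      = (∑ j ∈ univ.filter (fun j => j ∉ I), M a j * N j i) - ∑ x : I, M a x.1 *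
          ∑ y : I, K x y * ∑ j ∈ univ.filter (fun j => j ∉ I), M y.1 j * N j i := by
        simp only [BlowupGraph.pairing, sub_mul, Finset.sum_sub_distrib, Finset.sum_mul, Finset.mul_sum]
        congr 1
        rw [Finset.sum_comm]
        refine Finset.sum_congr rfl fun x _ => ?_
        rw [Finset.sum_comm]
        exact Finset.sum_congr rfl fun y _ => Finset.sum_congr rfl fun j _ => by ring
    _ = _ := by
        simp only [hy, mul_neg, Finset.sum_neg_distrib, hKM, sub_neg_eq_add]
        rw [hsplit]; ring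

theorem lNum_eq_rNum (I : Finset (Fin n)) (σ : Equiv.Perm (Fin n)) :
    G.lNum I σ = BlowupGraph.rNum I σ := by
  rw [BlowupGraph.lNum, BlowupGraph.rNum, Finset.natCast_card_filter, ← Finset.sum_neg_distrib,
    Finset.sum_filter]
  refine Finset.sum_congr rfl fun i _ => ?_
  by_cases hi : i ∈ I
  · simp [hi]
  rw [if_pos hi]
  have hmult : ∀ j, (G.mult i j : ℚ) = ((ttQ G)ᵀ * ttQ G) j i := fun j => by
    simp only [Matrix.mul_apply, Matrix.transpose_apply, ttQ, BlowupGraph.mult, Int.cast_sum, Int.cast_mul]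
    exact Finset.sum_congr rfl fun k _ => mul_comm _ _
  simp only [hmult, mul_comm _ (G.pairing I (σ i) _)]
  rw [schur_mul G I (σ i) i hi, Matrix.one_apply]
  simp [hi]

end GrothLib.BlowupGr
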