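import Groth.Prelude.Def_W4c2arithlefschetzNode
import Mathlib.RingTheory.MvPowerSeries.Inverse
import Mathlib.RingTheory.MvPowerSeries.Equiv
import Mathlib.RingTheory.MvPowerSeries.NoZeroDivisors
import Mathlib.RingTheory.PowerSeries.Inverse
import Mathlib.RingTheory.PowerSeries.Ideal
import Mathlib.RingTheory.Filtration
import Mathlib.RingTheory.Length
import Mathlib.RingTheory.LocalRing.ResidueField.Basic
import Mathlib.RingTheory.DiscreteValuationRing.Basic
import Mathlib.Tactic.LinearCombination

/-!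
# The formal double point `B[[x, y]]/(xy - a)`
-/

universe u v

namespace GrothLib.NodeAlg

open ArLef Finsupp

set_option linter.unusedSectionVars false

variable {B : Type u} [CommRing B]

/-! ## Lengths of quotients -/

section Length

variable {A : Type u} [CommRing A]

/-- Length of the quotient by the ideal generated by two elements. -/
noncomputable abbrev L (a b : A) : ℕ∞ := Module.length A (A ⧸ Ideal.span ({a, b} : Set A))

theorem L_comm (a b : A) : L a b = L b a := by rw [L, L, Set.pair_comm]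

theorem L_congr_ideal {a b a' b' : A}
    (h : Ideal.span ({a, b} : Set A) = Ideal.span ({a', b'} : Set A)) : L a b = L a' b' := by
  rw [L, L, h]

theorem L_add_mul (a x c : A) : L (a + x * c) x = L a x := L_congr_ideal <| by
  refine le_antisymm (Ideal.span_le.mpr ?_) (Ideal.span_le.mpr ?_) <;> rintro z (rfl | rfl)
  · exact Ideal.mem_span_pair.mpr ⟨1, c, by ring⟩
  · exact Ideal.subset_span (Set.mem_insert_of_mem _ rfl)
  · exact Ideal.mem_span_pair.mpr ⟨1, -c, by ring⟩
  · exact Ideal.subset_span (Set.mem_insert_of_mem _ rfl)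

theorem span_pair_mul_unit (a b u : A) (hu : IsUnit u) :
    Ideal.span ({a * u, b} : Set A) = Ideal.span ({a, b} : Set A) := by
  rw [Ideal.span_insert, Ideal.span_singleton_mul_right_unit hu, ← Ideal.span_insert]

theorem L_mul {a x y : A} (hx : ∀ z, a ∣ x * z → a ∣ z) :
    L a (x * y) = L a x + L a y := by
  let f : (A ⧸ Ideal.span ({a, y} : Set A)) →ₗ[A] (A ⧸ Ideal.span ({a, x * y} : Set A)) :=
    Submodule.mapQ _ _ (LinearMap.mulLeft A x) (by
      refine Ideal.span_le.mpr ?_
      rintro z (rfl | rfl)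
      · exact Ideal.mul_mem_left _ x (Ideal.subset_span (Set.mem_insert _ _))
      · exact Ideal.subset_span (Set.mem_insert_of_mem _ rfl))
  have hsub : Ideal.span ({a, x * y} : Set A) ≤ Ideal.span ({a, x} : Set A) := by
    refine Ideal.span_le.mpr ?_
    rintro z (rfl | rfl)
    · exact Ideal.subset_span (Set.mem_insert _ _)
    · exact Ideal.mul_mem_right _ _ (Ideal.subset_span (Set.mem_insert_of_mem _ rfl))
  have hf : Function.Injective f := by
    rw [injective_iff_map_eq_zero]
    intro z hz
    obtain ⟨z, rfl⟩ := Submodule.Quotient.mk_surjective _ z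
    rw [Submodule.mapQ_apply, LinearMap.mulLeft_apply, Submodule.Quotient.mk_eq_zero] at hz
    obtain ⟨c, d, hcd⟩ := Ideal.mem_span_pair.mp hz
    obtain ⟨w, hw⟩ := hx (z - d * y) ⟨c, by linear_combination -hcd⟩
    rw [Submodule.Quotient.mk_eq_zero, Ideal.mem_span_pair]
    exact ⟨w, d, by linear_combination -hw⟩
  have hex : Function.Exact f (Submodule.factor hsub) := by
    intro z
    obtain ⟨z, rfl⟩ := Submodule.Quotient.mk_surjective _ z
    constructor
    · intro hz
      have hz' : z ∈ Ideal.span ({a, x} : Set A) := (Submodule.Quotient.mk_eq_zero _).mp hz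
      obtain ⟨c, d, hcd⟩ := Ideal.mem_span_pair.mp hz'
      refine ⟨Submodule.Quotient.mk d, ?_⟩
      rw [Submodule.mapQ_apply, LinearMap.mulLeft_apply, Submodule.Quotient.eq, Ideal.mem_span_pair]
      exact ⟨-c, 0, by linear_combination -hcd⟩
    · rintro ⟨w, hw⟩
      obtain ⟨w, rfl⟩ := Submodule.Quotient.mk_surjective _ w
      rw [← hw, Submodule.mapQ_apply, LinearMap.mulLeft_apply]
      exact (Submodule.Quotient.mk_eq_zero _).mpr
        (Ideal.mul_mem_right _ _ (Ideal.subset_span (Set.mem_insert_of_mem _ rfl)))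
  rw [L, Module.length_eq_add_of_exact f _ hf (Submodule.factor_surjective hsub) hex, add_comm]

theorem L_pow {a x : A} (hx : ∀ z, a ∣ x * z → a ∣ z) (m : ℕ) (y : A) :
    L a (x ^ m * y) = (m : ℕ∞) * L a x + L a y := by
  induction m with
  | zero => simp
  | succ m ih =>
    rw [pow_succ', mul_assoc, L_mul hx, ih, Nat.cast_succ, add_mul, one_mul]
    ac_rfl

theorem L_isUnit (a : A) {u : A} (hu : IsUnit u) : L a u = 0 := by
  have h : Ideal.span ({a, u} : Set A) = ⊤ :=
    Ideal.eq_top_of_isUnit_mem _ (Ideal.subset_span (Set.mem_insert_of_mem _ rfl)) hu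
  rw [L, h]
  have : Subsingleton (A ⧸ (⊤ : Ideal A)) := Submodule.Quotient.subsingleton_iff.mpr rfl
  exact Module.length_eq_zero

/-- A regular element with prime span is regular modulo any element it does not divide. -/
theorem regular_mod {x a : A} (hx : IsRegular x) (hxp : ∀ p q, x ∣ p * q → x ∣ p ∨ x ∣ q)
    (hxa : ¬ x ∣ a) : ∀ z, a ∣ x * z → a ∣ z := by
  rintro z ⟨w, hw⟩
  obtain ⟨w', rfl⟩ := (hxp a w ⟨z, hw.symm⟩).resolve_left hxa
  exact ⟨w', hx.left (show x * z = x * (a * w') by linear_combination hw)⟩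

theorem regular_mod_symm {x a : A} (h : ∀ z, a ∣ x * z → a ∣ z) (ha : IsRegular a) :
    ∀ z, x ∣ a * z → x ∣ z := by
  rintro z ⟨w, hw⟩
  obtain ⟨w', rfl⟩ := h w ⟨z, hw.symm⟩
  exact ⟨w', ha.left (show a * z = a * (x * w') by linear_combination hw)⟩

/-- Length transported along a surjection with known kernel. -/
theorem length_quot_map {S : Type v} [CommRing S] (φ : A →+* S) (hφ : Function.Surjective φ)
    (I : Ideal A) (J : Ideal S) (h : J.comap φ = I) :
    Module.length A (A ⧸ I) = Module.length S (S ⧸ J) := by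
  algebraize [φ]
  rw [← Module.length_eq_of_surjective (S := A) (R := S) (M := S ⧸ J) hφ]
  let g : A →ₗ[A] S ⧸ J := (J.mkQ.restrictScalars A).comp (Algebra.linearMap A S)
  have hg : Function.Surjective g := (Submodule.mkQ_surjective J).comp hφ
  have hker : LinearMap.ker g = I := by
    ext x
    rw [← h]
    rw [LinearMap.mem_ker, Ideal.mem_comap]
    exact Submodule.Quotient.mk_eq_zero J
  exact ((Submodule.quotEquivOfEq _ _ hker.symm).trans (g.quotKerEquivOfSurjective hg)).length_eq

/-- Krull intersection for a quotient. -/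
theorem mem_of_forall_mem_sup_pow [IsNoetherianRing A] [IsLocalRing A] (J : Ideal A) {x : A}
    (h : ∀ n : ℕ, x ∈ J ⊔ IsLocalRing.maximalIdeal A ^ n) : x ∈ J := by
  rw [← Submodule.Quotient.mk_eq_zero J, ← Submodule.mem_bot A,
    ← (IsLocalRing.maximalIdeal A).iInf_pow_smul_eq_bot_of_isLocalRing (M := A ⧸ J)
      (IsLocalRing.maximalIdeal.isMaximal A).ne_top, Submodule.mem_iInf]
  intro n
  obtain ⟨j, hj, m, hm, rfl⟩ := Submodule.mem_sup.mp (h n)
  rw [Submodule.Quotient.mk_add, (Submodule.Quotient.mk_eq_zero J).mpr hj, zero_add,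
    show (Submodule.Quotient.mk m : A ⧸ J) = m • Submodule.Quotient.mk 1 by
      rw [← Submodule.Quotient.mk_smul, smul_eq_mul, mul_one]]
  exact Submodule.smul_mem_smul hm Submodule.mem_top

end Length

/-! ## The branches -/

variable (a : B) {k : Type v} [CommRing k] (φ : B →+* k)

/-- Restriction of a power series to an axis. -/
noncomputable def axis (s : Fin 2) : MvPowerSeries (Fin 2) B →+* PowerSeries k where
  toFun f := PowerSeries.mk fun n => φ (MvPowerSeries.coeff (single s n) f)
  map_one' := by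
    ext n
    rw [PowerSeries.coeff_mk, MvPowerSeries.coeff_one, PowerSeries.coeff_one, apply_ite φ, map_one, map_zero]
    simp
  map_mul' f g := by
    ext n
    simp only [PowerSeries.coeff_mk, PowerSeries.coeff_mul, MvPowerSeries.coeff_mul,
      Finsupp.antidiagonal_single, Finset.sum_map, map_sum, map_mul]
    rfl
  map_zero' := by ext; simp
  map_add' f g := by ext; simp

theorem coeff_axis (s : Fin 2) (f : MvPowerSeries (Fin 2) B) (n : ℕ) :
    PowerSeries.coeff n (axis φ s f) = φ (MvPowerSeries.coeff (single s n) f) := by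
  simp [axis]

theorem axis_X_self (s : Fin 2) : axis φ s (MvPowerSeries.X s) = PowerSeries.X := by
  ext n
  rw [coeff_axis, MvPowerSeries.coeff_X, PowerSeries.coeff_X, apply_ite φ, map_one, map_zero]
  simp [(single_injective s).eq_iff]

theorem axis_X_ne {s o : Fin 2} (h : o ≠ s) : axis φ s (MvPowerSeries.X o) = 0 := by
  ext n
  rw [coeff_axis, MvPowerSeries.coeff_X, if_neg, map_zero, map_zero]
  intro heq
  have := DFunLike.congr_fun heq o
  simp [h] at this

theorem axis_C (s : Fin 2) (b : B) : axis φ s (MvPowerSeries.C b) = PowerSeries.C (φ b) := by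
  ext n
  rw [coeff_axis, MvPowerSeries.coeff_C, PowerSeries.coeff_C, apply_ite φ, map_zero]
  simp

variable {a} (ha : φ a = 0)

/-- The branch map which kills the variable other than `s`. -/
noncomputable def br (s : Fin 2) : NodeAlg B a →+* PowerSeries k :=
  Ideal.Quotient.lift _ (axis φ s) fun f hf => by
    obtain ⟨g, rfl⟩ := Ideal.mem_span_singleton.mp hf
    have : axis φ s (MvPowerSeries.X 0 * MvPowerSeries.X 1 - MvPowerSeries.C a) = 0 := by
      rw [map_sub, axis_C, ha, map_zero, sub_zero, map_mul]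
      rcases (show s = 0 ∨ s = 1 by fin_cases s <;> simp) with rfl | rfl
      · rw [axis_X_ne φ (show (1 : Fin 2) ≠ 0 by decide), mul_zero]
      · rw [axis_X_ne φ (show (0 : Fin 2) ≠ 1 by decide), zero_mul]
    rw [map_mul, this, zero_mul]

theorem br_t0 : br φ ha 0 (NodeAlg.t a) = PowerSeries.X := axis_X_self φ 0
theorem br_e1 : br φ ha 1 (NodeAlg.e a) = PowerSeries.X := axis_X_self φ 1
theorem br_e0 : br φ ha 0 (NodeAlg.e a) = 0 := axis_X_ne φ (by decide)
theorem br_t1 : br φ ha 1 (NodeAlg.t a) = 0 := axis_X_ne φ (by decide)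

theorem br_algebraMap (s : Fin 2) (b : B) :
    br φ ha s (algebraMap B (NodeAlg B a) b) = PowerSeries.C (φ b) := axis_C φ s b

theorem t_mul_e : NodeAlg.t a * NodeAlg.e a = algebraMap B (NodeAlg B a) a := by
  refine Ideal.Quotient.eq.mpr (Ideal.mem_span_singleton_self _)

variable (hφ : Function.Surjective φ) (hker : ∀ b, φ b = 0 → a ∣ b)

include hφ in
theorem br_surjective (s : Fin 2) : Function.Surjective (br φ ha s) := by
  intro p
  choose g hg using hφ
  refine ⟨Ideal.Quotient.mk _ (fun m => g (PowerSeries.coeff (m s) p)), ?_⟩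
  refine PowerSeries.ext fun n => ?_
  show PowerSeries.coeff n (axis φ s _) = _
  rw [coeff_axis, MvPowerSeries.coeff_apply]
  simp [hg]

include hker in
theorem dvd_of_br_eq_zero {s o : Fin 2} (hso : s ≠ o) {x : NodeAlg B a} (hx : br φ ha s x = 0) :
    Ideal.Quotient.mk _ (MvPowerSeries.X o) ∣ x := by
  classical
  obtain ⟨f, rfl⟩ := Ideal.Quotient.mk_surjective x
  have hf : ∀ n, a ∣ MvPowerSeries.coeff (single s n) f := fun n => hker _ (by
    rw [← coeff_axis]
    rw [show axis φ s f = 0 from hx, map_zero])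
  choose c hc using hf
  let g : MvPowerSeries (Fin 2) B := fun m => if m o = 0 then c (m s) else 0
  have hd : MvPowerSeries.X o ∣ f - MvPowerSeries.C a * g := by
    rw [MvPowerSeries.X_dvd_iff]
    intro m hm
    have hms : m = single s (m s) := by
      ext i
      by_cases hi : i = s
      · subst hi; simp
      · have : i = o := by fin_cases s <;> fin_cases o <;> fin_cases i <;> simp_all
        subst this; simp [hm, hso]
    rw [map_sub, MvPowerSeries.coeff_C_mul, MvPowerSeries.coeff_apply g, show g m = c (m s) from if_pos hm,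
      ← hc, ← hms, sub_self]
  obtain ⟨q, hq⟩ := hd
  have hca : Ideal.Quotient.mk _ (MvPowerSeries.X o) ∣
      (Ideal.Quotient.mk _ (MvPowerSeries.C a) : NodeAlg B a) := by
    have h1 : (Ideal.Quotient.mk _ (MvPowerSeries.C a) : NodeAlg B a) = NodeAlg.t a * NodeAlg.e a :=
      t_mul_e.symm
    rw [h1]
    have : o = 0 ∨ o = 1 := by fin_cases o <;> simp
    rcases this with rfl | rfl
    · exact dvd_mul_right _ _
    · exact dvd_mul_left _ _
  rw [show f = MvPowerSeries.X o * q + MvPowerSeries.C a * g by rw [← hq]; ring, map_add, map_mul, map_mul]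
  exact dvd_add (dvd_mul_right _ _) (hca.mul_right _)

include hker in
theorem t_dvd_iff (x : NodeAlg B a) : NodeAlg.t a ∣ x ↔ br φ ha 1 x = 0 := by
  constructor
  · rintro ⟨y, rfl⟩; rw [map_mul, br_t1, zero_mul]
  · exact dvd_of_br_eq_zero φ ha hker (by decide)

include hker in
theorem e_dvd_iff (x : NodeAlg B a) : NodeAlg.e a ∣ x ↔ br φ ha 0 x = 0 := by
  constructor
  · rintro ⟨y, rfl⟩; rw [map_mul, br_e0, zero_mul]
  · exact dvd_of_br_eq_zero φ ha hker (by decide)

include hker ha in
theorem t_prime [IsDomain k] : ∀ p q : NodeAlg B a, NodeAlg.t a ∣ p * q → NodeAlg.t a ∣ p ∨ NodeAlg.t a ∣ q := by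
  intro p q
  simp only [t_dvd_iff φ ha hker, map_mul, mul_eq_zero, imp_self]

include hker ha in
theorem e_prime [IsDomain k] : ∀ p q : NodeAlg B a, NodeAlg.e a ∣ p * q → NodeAlg.e a ∣ p ∨ NodeAlg.e a ∣ q := by
  intro p q
  simp only [e_dvd_iff φ ha hker, map_mul, mul_eq_zero, imp_self]

include ha in
theorem not_t_dvd_e [Nontrivial k] : ¬ NodeAlg.t a ∣ NodeAlg.e a := by
  rintro ⟨y, hy⟩
  have := congrArg (br φ ha 1) hy
  rw [map_mul, br_t1, zero_mul, br_e1] at this
  exact PowerSeries.X_ne_zero this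

include ha in
theorem not_e_dvd_t [Nontrivial k] : ¬ NodeAlg.e a ∣ NodeAlg.t a := by
  rintro ⟨y, hy⟩
  have := congrArg (br φ ha 0) hy
  rw [map_mul, br_e0, zero_mul, br_t0] at this
  exact PowerSeries.X_ne_zero this

include ha hφ hker in
/-- Every element is a constant plus an element of `(t, e)`. -/
theorem exists_decomp (x : NodeAlg B a) :
    ∃ (b : B) (y z : NodeAlg B a), x = algebraMap B (NodeAlg B a) b + NodeAlg.t a * y + NodeAlg.e a * z := by
  obtain ⟨b, hb⟩ := hφ (PowerSeries.constantCoeff (br φ ha 1 x))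
  obtain ⟨p, hp⟩ : PowerSeries.X ∣ br φ ha 1 (x - algebraMap B (NodeAlg B a) b) := by
    rw [PowerSeries.X_dvd_iff, map_sub, br_algebraMap, map_sub, PowerSeries.constantCoeff_C, hb, sub_self]
  obtain ⟨z, rfl⟩ := br_surjective φ ha hφ 1 p
  obtain ⟨y, hy⟩ := (t_dvd_iff φ ha hker (x - algebraMap B (NodeAlg B a) b - NodeAlg.e a * z)).mpr
    (by rw [map_sub, hp, map_mul, br_e1, sub_self])
  exact ⟨b, y, z, by linear_combination hy⟩

/-- Local algebra of the node. -/
structure Data (B : Type u) [CommRing B] (a : B) (k : Type v) [Field k] where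
  res : B →+* k
  res_a : res a = 0
  surj : Function.Surjective res
  ker : ∀ b, res b = 0 → a ∣ b

/-- The data for a discrete valuation ring. -/
noncomputable def dvrData (B : Type u) [CommRing B] [IsDomain B] [IsDiscreteValuationRing B] {π : B}
    (hπ : Irreducible π) : Data B π (IsLocalRing.ResidueField B) where
  res := IsLocalRing.residue B
  res_a := (IsLocalRing.residue_eq_zero_iff π).mpr
    (by rw [hπ.maximalIdeal_eq]; exact Ideal.mem_span_singleton_self π)
  surj := IsLocalRing.residue_surjective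
  ker b hb := by
    rw [IsLocalRing.residue_eq_zero_iff, hπ.maximalIdeal_eq, Ideal.mem_span_singleton] at hb
    exact hb

/-- The data for a field and the element `0`. -/
def fieldData (k : Type u) [Field k] : Data k 0 k where
  res := RingHom.id k
  res_a := rfl
  surj := fun x => ⟨x, rfl⟩
  ker _ hb := by simp_all

variable {K : Type v} [Field K] (D : Data B a K)

/-- The branch `e = 0`. -/
noncomputable abbrev Data.ρt : NodeAlg B a →+* PowerSeries K := br D.res D.res_a 0

/-- The branch `t = 0`. -/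
noncomputable abbrev Data.ρe : NodeAlg B a →+* PowerSeries K := br D.res D.res_a 1

variable [IsLocalRing B]

include D in
theorem Data.nontrivial : Nontrivial (NodeAlg B a) := (D.ρt).domain_nontrivial

include D in
theorem Data.isLocalRing : IsLocalRing (NodeAlg B a) :=
  have := D.nontrivial
  IsLocalRing.of_surjective' (Ideal.Quotient.mk _) Ideal.Quotient.mk_surjective

include D in
theorem Data.not_isUnit_t : ¬ IsUnit (NodeAlg.t a) := fun h => by
  have := h.map D.ρt
  rw [br_t0] at this
  exact PowerSeries.X_prime.not_isUnit this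

include D in
theorem Data.not_isUnit_e : ¬ IsUnit (NodeAlg.e a) := fun h => by
  have := h.map D.ρe
  rw [br_e1] at this
  exact PowerSeries.X_prime.not_isUnit this

include D in
theorem Data.maximalIdeal_eq [IsLocalRing (NodeAlg B a)] :
    IsLocalRing.maximalIdeal (NodeAlg B a) = Ideal.span {NodeAlg.t a, NodeAlg.e a} := by
  have ht : NodeAlg.t a ∈ IsLocalRing.maximalIdeal (NodeAlg B a) := D.not_isUnit_t
  have he : NodeAlg.e a ∈ IsLocalRing.maximalIdeal (NodeAlg B a) := D.not_isUnit_e
  refine le_antisymm (fun x hx => ?_) (Ideal.span_le.mpr (by rintro z (rfl | rfl) <;> assumption))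
  obtain ⟨p, hp⟩ : PowerSeries.X ∣ D.ρe x := by
    rw [PowerSeries.X_dvd_iff]
    by_contra hc
    have hu : IsUnit (D.ρe x) := PowerSeries.isUnit_iff_constantCoeff.mpr (isUnit_iff_ne_zero.mpr hc)
    obtain ⟨q, hq⟩ := hu.exists_right_inv
    obtain ⟨y, rfl⟩ := br_surjective D.res D.res_a D.surj 1 q
    obtain ⟨z, hz⟩ := (t_dvd_iff D.res D.res_a D.ker (x * y - 1)).mpr
      (by rw [map_sub, map_mul, hq, map_one, sub_self])
    refine (IsLocalRing.maximalIdeal.isMaximal (NodeAlg B a)).ne_top ((Ideal.eq_top_iff_one _).mpr ?_)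
    rw [show (1 : NodeAlg B a) = x * y - NodeAlg.t a * z by linear_combination -hz]
    exact sub_mem (Ideal.mul_mem_right _ _ hx) (Ideal.mul_mem_right _ _ ht)
  obtain ⟨z, rfl⟩ := br_surjective D.res D.res_a D.surj 1 p
  obtain ⟨y, hy⟩ := (t_dvd_iff D.res D.res_a D.ker (x - NodeAlg.e a * z)).mpr
    (by rw [map_sub, map_mul, br_e1, ← hp, sub_self])
  exact Ideal.mem_span_pair.mpr ⟨y, z, by linear_combination -hy⟩

include D in
theorem Data.L_t_e : L (NodeAlg.t a) (NodeAlg.e a) = 1 := by
  have := D.isLocalRing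
  rw [L, ← D.maximalIdeal_eq, Module.length_eq_one_iff, isSimpleModule_iff_isCoatom]
  exact (IsLocalRing.maximalIdeal.isMaximal _).out

include D in
/-- The fixed ideal is determined by constants and the two variables. -/
theorem Data.fixIdeal_le [IsNoetherianRing B] {F : Type*} [FunLike F (NodeAlg B a) (NodeAlg B a)]
    [RingHomClass F (NodeAlg B a) (NodeAlg B a)] (σ : F) (J : Ideal (NodeAlg B a))
    (ht : σ (NodeAlg.t a) - NodeAlg.t a ∈ J) (he : σ (NodeAlg.e a) - NodeAlg.e a ∈ J)
    (hB : ∀ b, σ (algebraMap B (NodeAlg B a) b) - algebraMap B (NodeAlg B a) b ∈ J) :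
    fixIdeal σ ≤ J := by
  have := D.isLocalRing
  set m := IsLocalRing.maximalIdeal (NodeAlg B a)
  have key : ∀ n r, σ r - r ∈ J ⊔ m ^ n := by
    intro n
    induction n with
    | zero => intro r; simp
    | succ n ih =>
      intro r
      obtain ⟨b, y, z, rfl⟩ := exists_decomp D.res D.res_a D.surj D.ker r
      have hstep : ∀ v : NodeAlg B a, v ∈ m → ∀ y, v * (σ y - y) ∈ J ⊔ m ^ (n + 1) := fun v hv y => by
        obtain ⟨j, hj, w, hw, heq⟩ := Submodule.mem_sup.mp (ih y)
        rw [← heq, mul_add, pow_succ']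
        exact Submodule.add_mem_sup (Ideal.mul_mem_left _ _ hj) (Ideal.mul_mem_mul hv hw)
      have h1 := hstep _ D.not_isUnit_t y
      have h2 := hstep _ D.not_isUnit_e z
      have h3 : (σ (algebraMap B _ b) - algebraMap B _ b) + (σ (NodeAlg.t a) - NodeAlg.t a) * σ y
          + (σ (NodeAlg.e a) - NodeAlg.e a) * σ z ∈ J :=
        add_mem (add_mem (hB b) (Ideal.mul_mem_right _ _ ht)) (Ideal.mul_mem_right _ _ he)
      convert add_mem (add_mem (Submodule.mem_sup_left h3) h1) h2 using 1
      simp only [map_add, map_mul]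
      ring
  have : IsNoetherianRing (NodeAlg B a) :=
    isNoetherianRing_of_surjective _ _ (Ideal.Quotient.mk _) Ideal.Quotient.mk_surjective
  refine Ideal.span_le.mpr ?_
  rintro _ ⟨r, rfl⟩
  exact mem_of_forall_mem_sup_pow J fun n => key n r

theorem sub_mem_fixIdeal {A : Type u} [Ring A] (σ : A → A) (r : A) : σ r - r ∈ fixIdeal σ :=
  Ideal.subset_span ⟨r, rfl⟩

section Regular

variable [IsDomain B] (hne : a ≠ 0)

include hne in
theorem isRegular_var (o s : Fin 2) (hso : s ≠ o) :
    IsRegular (Ideal.Quotient.mk _ (MvPowerSeries.X o) : NodeAlg B a) := by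
  refine isRegular_iff_eq_zero_of_mul.mpr ?_
  suffices h : ∀ x : NodeAlg B a, Ideal.Quotient.mk _ (MvPowerSeries.X o) * x = 0 → x = 0 from
    ⟨h, fun x hx => h x (Eq.trans (mul_comm _ _) hx)⟩
  intro x hx
  obtain ⟨f, rfl⟩ := Ideal.Quotient.mk_surjective x
  rw [← map_mul, Ideal.Quotient.eq_zero_iff_mem, Ideal.mem_span_singleton] at hx
  obtain ⟨g, hg⟩ := hx
  have hg0 : MvPowerSeries.X o ∣ g := by
    have hd : MvPowerSeries.X o ∣ MvPowerSeries.C a * g := by
      have hxy : MvPowerSeries.X o ∣ (MvPowerSeries.X 0 * MvPowerSeries.X 1 : MvPowerSeries (Fin 2) B) := by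
        have : o = 0 ∨ o = 1 := by fin_cases o <;> simp
        rcases this with rfl | rfl
        · exact dvd_mul_right _ _
        · exact dvd_mul_left _ _
      rw [show MvPowerSeries.C a * g
        = MvPowerSeries.X 0 * MvPowerSeries.X 1 * g - MvPowerSeries.X o * f by rw [hg]; ring]
      exact dvd_sub (hxy.mul_right _) (dvd_mul_right _ _)
    rw [MvPowerSeries.X_dvd_iff] at hd ⊢
    intro m hm
    have := hd m hm
    rw [MvPowerSeries.coeff_C_mul] at this
    exact (mul_eq_zero.mp this).resolve_left hne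
  obtain ⟨g', rfl⟩ := hg0
  have hX : (MvPowerSeries.X o : MvPowerSeries (Fin 2) B) ≠ 0 := fun h => by
    simpa using congrArg (MvPowerSeries.coeff (single o 1)) h
  rw [Ideal.Quotient.eq_zero_iff_mem, Ideal.mem_span_singleton]
  exact ⟨g', mul_left_cancel₀ hX (by rw [hg]; ring)⟩

include hne in
theorem t_regular : IsRegular (NodeAlg.t a) := isRegular_var hne 0 1 (by decide)

include hne in
theorem e_regular : IsRegular (NodeAlg.e a) := isRegular_var hne 1 0 (by decide)

include hne in
theorem pi_regular : IsRegular (algebraMap B (NodeAlg B a) a) :=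
  (t_mul_e (a := a)) ▸ (t_regular hne).mul (e_regular hne)

end Regular

end GrothLib.NodeAlg
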