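import Groth.Agent.Lib.ArLef.Node
import Mathlib.RingTheory.Ideal.Colon
import Mathlib.Algebra.Ring.GeomSum

/-!
# Fixed ideals on the formal double point
-/

universe u v

namespace GrothLib.NodeAlg

open ArLef

set_option linter.unusedSectionVars false

variable {A : Type u} [CommRing A]

theorem span_pair_le {a b : A} {J : Ideal A} (ha : a ∈ J) (hb : b ∈ J) :
    Ideal.span ({a, b} : Set A) ≤ J :=
  Ideal.span_le.mpr (by rintro z (rfl | rfl) <;> assumption)

theorem left_mem_pair (a b : A) : a ∈ Ideal.span ({a, b} : Set A) :=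
  Ideal.subset_span (Set.mem_insert _ _)

theorem right_mem_pair (a b : A) : b ∈ Ideal.span ({a, b} : Set A) :=
  Ideal.subset_span (Set.mem_insert_of_mem _ rfl)

theorem L_eq_of_mem {a b a' b' : A} (h1 : a ∈ Ideal.span ({a', b'} : Set A))
    (h2 : b ∈ Ideal.span ({a', b'} : Set A)) (h3 : a' ∈ Ideal.span ({a, b} : Set A))
    (h4 : b' ∈ Ideal.span ({a, b} : Set A)) : L a b = L a' b' :=
  L_congr_ideal (le_antisymm (span_pair_le h1 h2) (span_pair_le h3 h4))

theorem colon_span_pair {c x y : A} (hc : IsRegular c) :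
    (Ideal.span ({c * x, c * y} : Set A)).colon ({c} : Set A) = Ideal.span ({x, y} : Set A) := by
  ext z
  rw [Submodule.mem_colon_singleton, smul_eq_mul, Ideal.mem_span_pair, Ideal.mem_span_pair]
  constructor
  · rintro ⟨p, q, h⟩
    exact ⟨p, q, hc.left (show c * (p * x + q * y) = c * z by linear_combination h)⟩
  · rintro ⟨p, q, h⟩
    exact ⟨p, q, by linear_combination c * h⟩

section Dvr

variable {B : Type u} [CommRing B] [IsDomain B] [IsDiscreteValuationRing B] {π : B}

local notation "N" => NodeAlg B π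
local notation "tt" => NodeAlg.t π
local notation "ee" => NodeAlg.e π
local notation "ι" => algebraMap B (NodeAlg B π)

theorem te (π : B) : (NodeAlg.t π) * NodeAlg.e π = algebraMap B (NodeAlg B π) π := t_mul_e

theorem switch_or (hπ : Irreducible π) (σ : N ≃+* N) (hσ : Associated (σ (ι π)) (ι π)) :
    (∃ α β : Nˣ, σ tt = (α : N) * tt ∧ σ ee = (β : N) * ee) ∨
      (∃ α β : Nˣ, σ tt = (α : N) * ee ∧ σ ee = (β : N) * tt) := by
  let D := dvrData B hπ
  obtain ⟨u, hu⟩ := hσ
  have hte : σ tt * (σ ee * u) = tt * ee := by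
    rw [te, ← mul_assoc, ← map_mul, te, hu]
  have hpr : ∀ p q : N, σ tt ∣ p * q → σ tt ∣ p ∨ σ tt ∣ q := by
    intro p q h
    have h' := map_dvd σ.symm h
    rw [map_mul, σ.symm_apply_apply] at h'
    rcases t_prime D.res D.res_a D.ker _ _ h' with h | h
    · left; simpa using map_dvd σ h
    · right; simpa using map_dvd σ h
  have hnu : ¬ IsUnit (σ tt) := fun h => D.not_isUnit_t (by simpa using h.map σ.symm)
  have htr := t_regular (a := π) hπ.ne_zero
  have her := e_regular (a := π) hπ.ne_zero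
  have key : ∀ x y : N, IsRegular x → (∀ p q, x ∣ p * q → x ∣ p ∨ x ∣ q) →
      σ tt ∣ x → x * y = σ tt * (σ ee * u) → IsRegular y →
      ∃ α β : Nˣ, σ tt = (α : N) * x ∧ σ ee = (β : N) * y := by
    rintro x y hx hxp ⟨c, hc⟩ hxy _
    obtain ⟨d, hd⟩ := (hxp _ _ (dvd_of_eq hc)).resolve_right (fun ⟨c', hc'⟩ => hnu
      (IsUnit.of_mul_eq_one c' (hx.left (show x * (σ tt * c') = x * 1 by
        linear_combination (-(σ tt)) * hc' - hc))))
    have hdc : d * c = 1 := hx.left (show x * (d * c) = x * 1 by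
      linear_combination (-c) * hd - hc)
    obtain ⟨α, rfl⟩ := IsUnit.of_mul_eq_one c hdc
    have hy : y = (α : N) * (σ ee * u) := hx.left (show x * y = x * ((α : N) * (σ ee * u)) by
      linear_combination hxy + (σ ee * u) * hd)
    refine ⟨α, (α * u)⁻¹, by linear_combination hd, ?_⟩
    rw [Units.eq_inv_mul_iff_mul_eq, Units.val_mul, hy]
    ring
  rcases hpr tt ee ⟨σ ee * u, hte.symm⟩ with h | h
  · exact Or.inl (key tt ee htr (t_prime D.res D.res_a D.ker) h hte.symm her)
  · exact Or.inr (key ee tt her (e_prime D.res D.res_a D.ker) h (by rw [hte, mul_comm]) htr)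

theorem fixIdeal_algEquiv_eq {k : Type v} [Field k] (D : Data B π k)
    (σ : N ≃ₐ[B] N) (J : Ideal N) (h1 : σ tt - tt ∈ J) (h2 : σ ee - ee ∈ J) : fixIdeal σ ≤ J :=
  D.fixIdeal_le σ J h1 h2 fun b => by rw [AlgEquiv.commutes, sub_self]; exact J.zero_mem

theorem fix_stabilizes (hπ : Irreducible π) (σ : N ≃ₐ[B] N) (hσ : σ ≠ AlgEquiv.refl)
    (ht : Associated (σ tt) tt) (he : Associated (σ ee) ee) :
    ∃ g : N, g ≠ 0 ∧ fixIdeal σ = Ideal.span {g} * Ideal.span ({tt, ee} : Set N) := by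
  let D := dvrData B hπ
  obtain ⟨α, hα⟩ := ht.symm
  obtain ⟨β, hβ⟩ := he.symm
  have hab : (α : N) * β = 1 := (pi_regular (a := π) hπ.ne_zero).left (show ι π * ((α : N) * β) = ι π * 1 by
    rw [mul_one, ← te]
    have : σ tt * σ ee = tt * ee := by rw [← map_mul, te, AlgEquiv.commutes]
    rw [← hα, ← hβ] at this
    linear_combination this)
  have hmain : fixIdeal σ = Ideal.span {(α : N) - 1} * Ideal.span ({tt, ee} : Set N) := by
    refine le_antisymm (fixIdeal_algEquiv_eq D σ _ ?_ ?_) ?_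
    · rw [← hα, show tt * α - tt = ((α : N) - 1) * tt by ring]
      exact Ideal.mul_mem_mul (Ideal.mem_span_singleton_self _) (left_mem_pair _ _)
    · rw [← hβ, show ee * β - ee = ((α : N) - 1) * (-(β : N) * ee) by linear_combination ee * hab]
      exact Ideal.mul_mem_mul (Ideal.mem_span_singleton_self _) (Ideal.mul_mem_left _ _ (right_mem_pair _ _))
    · refine Ideal.span_singleton_mul_le_iff.mpr fun z hz => ?_
      obtain ⟨p, q, rfl⟩ := Ideal.mem_span_pair.mp hz
      have h1 := sub_mem_fixIdeal σ tt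
      have h2 := sub_mem_fixIdeal σ ee
      rw [← hα] at h1
      rw [← hβ] at h2
      rw [show ((α : N) - 1) * (p * tt + q * ee)
        = p * (tt * α - tt) + (-(α : N) * q) * (ee * β - ee) by linear_combination (q * ee) * hab]
      exact add_mem (Ideal.mul_mem_left _ _ h1) (Ideal.mul_mem_left _ _ h2)
  refine ⟨(α : N) - 1, fun h => hσ (AlgEquiv.ext fun r => ?_), hmain⟩
  have := sub_mem_fixIdeal σ r
  rw [hmain, h, Ideal.span_singleton_zero, Submodule.bot_mul, Submodule.mem_bot, sub_eq_zero] at this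
  exact this

theorem fix_switches (hπ : Irreducible π) (σ : N ≃ₐ[B] N)
    (ht : Associated (σ tt) ee) (he : Associated (σ ee) tt) :
    ∃ h : N, fixIdeal σ = Ideal.span {h} ∧
      h ∉ (Ideal.span ({tt, ee} : Set N)) ^ 2 ∧ IsSMulRegular (N ⧸ Ideal.span ({h} : Set N)) π := by
  let D := dvrData B hπ
  obtain ⟨α, hα⟩ := ht.symm
  obtain ⟨β, hβ⟩ := he.symm
  have hab : (α : N) * β = 1 := (pi_regular (a := π) hπ.ne_zero).left (show ι π * ((α : N) * β) = ι π * 1 by
    rw [mul_one, ← te]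
    have : σ tt * σ ee = tt * ee := by rw [← map_mul, te, AlgEquiv.commutes]
    rw [← hα, ← hβ] at this
    linear_combination this)
  set h := ee * α - tt with hh
  refine ⟨h, le_antisymm (fixIdeal_algEquiv_eq D σ _ ?_ ?_) ?_, ?_, ?_⟩
  · rw [← hα, ← hh]; exact Ideal.mem_span_singleton_self _
  · rw [← hβ, show tt * β - ee = -(β : N) * h by rw [hh]; linear_combination ee * hab]
    exact Ideal.mul_mem_left _ _ (Ideal.mem_span_singleton_self _)
  · rw [Ideal.span_le, Set.singleton_subset_iff, hh, hα]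
    exact sub_mem_fixIdeal σ tt
  · intro hmem
    have h1 := Ideal.mem_map_of_mem D.ρe hmem
    rw [Ideal.map_pow, Ideal.map_span, Set.image_pair, br_t1, br_e1, Ideal.span_insert_zero,
      Ideal.span_singleton_pow, Ideal.mem_span_singleton, hh, map_sub, map_mul, br_e1, br_t1, sub_zero,
      pow_two] at h1
    have h2 : PowerSeries.X ∣ D.ρe (α : N) := (mul_dvd_mul_iff_left PowerSeries.X_ne_zero).mp h1
    exact PowerSeries.X_prime.not_isUnit (isUnit_of_dvd_unit h2 (α.isUnit.map _))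
  · intro p q hpq
    obtain ⟨p, rfl⟩ := Submodule.Quotient.mk_surjective _ p
    obtain ⟨q, rfl⟩ := Submodule.Quotient.mk_surjective _ q
    simp only at hpq
    rw [← Submodule.Quotient.mk_smul, ← Submodule.Quotient.mk_smul, Submodule.Quotient.eq, ← smul_sub] at hpq
    rw [show π • (p - q) = ι π * (p - q) from algebra_compatible_smul N π (p - q), ← te, Ideal.mem_span_singleton] at hpq
    rw [Submodule.Quotient.eq, Ideal.mem_span_singleton]
    have hht : ¬ tt ∣ h := by
      rw [t_dvd_iff D.res D.res_a D.ker, hh, map_sub, map_mul, br_e1, br_t1, sub_zero]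
      exact mul_ne_zero PowerSeries.X_ne_zero (α.isUnit.map D.ρe).ne_zero
    have hhe : ¬ ee ∣ h := by
      rw [e_dvd_iff D.res D.res_a D.ker, hh, map_sub, map_mul, br_e0, br_t0, zero_mul, zero_sub, neg_eq_zero]
      exact PowerSeries.X_ne_zero
    rw [mul_assoc] at hpq
    exact regular_mod (e_regular hπ.ne_zero) (e_prime D.res D.res_a D.ker) hhe _
      (regular_mod (t_regular hπ.ne_zero) (t_prime D.res D.res_a D.ker) hht _ hpq)

variable {j : ℕ} {γ : B}

theorem not_fix_le (hπ : Irreducible π) (hj : 1 ≤ j) (hγ : IsUnit γ) (σ : N ≃+* N)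
    (hσ : σ (ι π) = ι (π + γ * π ^ j)) : ¬ fixIdeal σ ≤ Ideal.span ({ι (π ^ j)} : Set N) := by
  intro hle
  let D := dvrData B hπ
  obtain ⟨x, hx⟩ := Ideal.mem_span_singleton.mp (hle (sub_mem_fixIdeal σ tt))
  obtain ⟨y, hy⟩ := Ideal.mem_span_singleton.mp (hle (sub_mem_fixIdeal σ ee))
  have h := hσ
  rw [← te, map_mul] at h
  rw [show σ tt = tt + ι (π ^ j) * x by rw [← hx]; ring,
    show σ ee = ee + ι (π ^ j) * y by rw [← hy]; ring, map_add, map_mul, ← te] at h
  have hreg : IsRegular (ι (π ^ j)) := by rw [map_pow]; exact (pi_regular hπ.ne_zero).pow j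
  have h2 : ι γ = ee * x + tt * y + ι (π ^ j) * x * y :=
    hreg.left (show ι (π ^ j) * ι γ = ι (π ^ j) * _ by linear_combination -h)
  have h3 := congrArg (fun z => PowerSeries.constantCoeff (D.ρe z)) h2
  simp only [map_add, map_mul, br_algebraMap, br_e1, br_t1, zero_mul,
    add_zero, PowerSeries.constantCoeff_C, PowerSeries.constantCoeff_X] at h3
  rw [map_pow, D.res_a, zero_pow (by omega), zero_mul, zero_mul, add_zero] at h3
  exact (hγ.map D.res).ne_zero h3

theorem length_switches (hπ : Irreducible π) (hj : 1 ≤ j) (hγ : IsUnit γ) (σ : N ≃+* N)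
    (hσB : ∀ b : B, σ (ι b) - ι b ∈ Ideal.span ({ι (π ^ j)} : Set N))
    (hσπ : σ (ι π) = ι (π + γ * π ^ j))
    (ht : Associated (σ tt) ee) (he : Associated (σ ee) tt) :
    (∀ g : N, fixIdeal σ ≤ Ideal.span ({g} : Set N) → IsUnit g) ∧
      Module.length N (N ⧸ fixIdeal σ) = ((2 * j - 1 : ℕ) : ℕ∞) := by
  let D := dvrData B hπ
  obtain ⟨α, hα⟩ := ht.symm
  obtain ⟨β, hβ⟩ := he.symm
  obtain ⟨n, rfl⟩ : ∃ n, j = n + 1 := ⟨j - 1, by omega⟩
  have her := e_regular (a := π) hπ.ne_zero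
  have hab : (α : N) * β = 1 + ι γ * ι π ^ n :=
    (pi_regular (a := π) hπ.ne_zero).left (show ι π * ((α : N) * β) = ι π * _ by
      have h := hσπ
      rw [← te, map_mul, ← hα, ← hβ, map_add, map_mul, map_pow, ← te] at h
      rw [← te]
      linear_combination h)
  set h := ee * α - tt with hh
  obtain ⟨g0, hg0⟩ := (hγ.map ι)
  have hI1 : h ∈ fixIdeal σ := by rw [hh, hα]; exact sub_mem_fixIdeal σ tt
  have hI2 : tt * β - ee ∈ fixIdeal σ := by rw [hβ]; exact sub_mem_fixIdeal σ ee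
  have hI3 : ι π ^ n * ee ∈ fixIdeal σ := by
    have : (↑g0⁻¹ : N) * (β * h + (tt * β - ee)) = ι π ^ n * ee := by
      rw [Units.inv_mul_eq_iff_eq_mul, hg0, hh]
      linear_combination ee * hab
    rw [← this]
    exact Ideal.mul_mem_left _ _ (add_mem (Ideal.mul_mem_left _ _ hI1) hI2)
  obtain ⟨q, hq⟩ := sub_dvd_pow_sub_pow (ee * (α : N)) tt n
  have hpe : ((α : N) ^ n) * ee ^ (2 * n + 1) = ι π ^ n * ee + h * (q * ee ^ (n + 1)) := by
    rw [← te, hh]
    linear_combination (ee ^ (n + 1)) * hq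
  have hI4 : ee ^ (2 * n + 1) ∈ fixIdeal σ := by
    rw [show ee ^ (2 * n + 1) = (↑(α ^ n)⁻¹ : N) * (ι π ^ n * ee + h * (q * ee ^ (n + 1))) by
      rw [← hpe, ← Units.val_pow_eq_pow_val, Units.inv_mul_cancel_left]]
    exact Ideal.mul_mem_left _ _ (add_mem hI3 (Ideal.mul_mem_right _ _ hI1))
  have hJ3 : ι π ^ n * ee ∈ Ideal.span ({h, ee ^ (2 * n + 1)} : Set N) :=
    Ideal.mem_span_pair.mpr ⟨-(q * ee ^ (n + 1)), (α : N) ^ n, by linear_combination hpe⟩
  have hfix : fixIdeal σ = Ideal.span ({h, ee ^ (2 * n + 1)} : Set N) := by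
    refine le_antisymm (D.fixIdeal_le σ _ ?_ ?_ fun b => ?_) (span_pair_le hI1 hI4)
    · rw [← hα]; exact left_mem_pair _ _
    · rw [← hβ, show tt * β - ee = ι γ * (ι π ^ n * ee) - β * h by rw [hh]; linear_combination ee * hab]
      exact sub_mem (Ideal.mul_mem_left _ _ hJ3) (Ideal.mul_mem_left _ _ (left_mem_pair _ _))
    · refine Ideal.span_le.mpr (Set.singleton_subset_iff.mpr ?_) (hσB b)
      show ι (π ^ (n + 1)) ∈ Ideal.span ({h, ee ^ (2 * n + 1)} : Set N)
      rw [map_pow, show ι π ^ (n + 1) = tt * (ι π ^ n * ee) by rw [← te]; ring]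
      exact Ideal.mul_mem_left _ _ hJ3
  have hhe : ¬ ee ∣ h := by
    rw [e_dvd_iff D.res D.res_a D.ker, hh, map_sub, map_mul, br_e0, br_t0, zero_mul, zero_sub, neg_eq_zero]
    exact PowerSeries.X_ne_zero
  constructor
  · intro g hg
    by_contra hgu
    have hgh := Ideal.mem_span_singleton.mp (hg hI1)
    have hdiv : ∀ k, g ∣ ee ^ k → ee ∣ g := by
      intro k
      induction k with
      | zero => intro h; exact absurd (isUnit_of_dvd_one (by simpa using h)) hgu
      | succ k ih =>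
        rintro ⟨z, hz⟩
        rcases e_prime D.res D.res_a D.ker g z ⟨ee ^ k, by rw [← hz]; ring⟩ with h | ⟨z', hz'⟩
        · exact h
        · exact ih ⟨z', her.left (show ee * ee ^ k = ee * (g * z') by
            linear_combination hz + g * hz')⟩
    exact hhe ((hdiv _ (Ideal.mem_span_singleton.mp (hg hI4))).trans hgh)
  · rw [hfix, show 2 * (n + 1) - 1 = 2 * n + 1 by omega]
    show L h (ee ^ (2 * n + 1)) = _
    have hreg := regular_mod her (e_prime D.res D.res_a D.ker) hhe
    have hLhe : L h ee = 1 := by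
      rw [L_eq_of_mem (a' := tt) (b' := ee), D.L_t_e]
      · exact Ideal.mem_span_pair.mpr ⟨-1, α, by rw [hh]; ring⟩
      · exact right_mem_pair _ _
      · exact Ideal.mem_span_pair.mpr ⟨-1, α, by rw [hh]; ring⟩
      · exact right_mem_pair _ _
    rw [← mul_one (ee ^ (2 * n + 1)), L_pow hreg, hLhe, L_isUnit h isUnit_one, mul_one, add_zero]

/-- The core computation for stabilising automorphisms. -/
theorem length_core (hπ : Irreducible π) {a b : N} (w g : Nˣ) (p q : ℕ)
    (hrel : a + (w : N) * b = (g : N) * tt ^ p * ee ^ q) (hea : ¬ ee ∣ a) (htb : ¬ tt ∣ b) :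
    L (a * tt) (b * ee) = 1 + (p + 1 : ℕ) * L tt b + (q + 1 : ℕ) * L ee a ∧
      tt ^ (p + 1) * ee ^ (q + 1) ∈ Ideal.span ({a * tt, b * ee} : Set N) := by
  let D := dvrData B hπ
  have htr := t_regular (a := π) hπ.ne_zero
  have her := e_regular (a := π) hπ.ne_zero
  have htp := t_prime D.res D.res_a D.ker
  have hep := e_prime D.res D.res_a D.ker
  have hte : ¬ tt ∣ ee := not_t_dvd_e D.res D.res_a
  have het : ¬ ee ∣ tt := not_e_dvd_t D.res D.res_a
  constructor
  · have h1 : L (a * tt) (b * ee) = L (b * ee) tt + L (b * ee) a := by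
      rw [L_comm, mul_comm a, L_mul (regular_mod htr htp fun h => (htp _ _ h).elim htb hte)]
    have h2 : L (b * ee) tt = 1 + L tt b := by
      rw [L_comm, mul_comm b, L_mul (regular_mod her hep het), D.L_t_e]
    have h3 : L (b * ee) a = L ee a + L a b := by
      rw [L_comm, mul_comm b, L_mul (regular_mod her hep hea), L_comm a ee]
    have h4 : L a b = L a (tt ^ p * ee ^ q) := by
      refine L_eq_of_mem (left_mem_pair _ _) ?_ (left_mem_pair _ _) ?_
      · exact Ideal.mem_span_pair.mpr ⟨-(↑w⁻¹ : N), ↑w⁻¹ * g, by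
          linear_combination (-(↑w⁻¹ : N)) * hrel + b * w.inv_mul⟩
      · exact Ideal.mem_span_pair.mpr ⟨(↑g⁻¹ : N), ↑g⁻¹ * w, by
          linear_combination (↑g⁻¹ : N) * hrel + (tt ^ p * ee ^ q) * g.inv_mul⟩
    have h5 : L a (tt ^ p * ee ^ q) = (p : ℕ∞) * L tt b + (q : ℕ∞) * L ee a := by
      have heq : L a (ee ^ q) = (q : ℕ∞) * L ee a := by
        rw [← mul_one (ee ^ q), L_pow (regular_mod her hep hea), L_isUnit a isUnit_one, add_zero, L_comm]
      rcases Nat.eq_zero_or_pos p with rfl | hp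
      · rw [pow_zero, one_mul, heq, Nat.cast_zero, zero_mul, zero_add]
      obtain ⟨p, rfl⟩ := Nat.exists_eq_add_of_le' hp
      have hta : ¬ tt ∣ a := fun h => by
        have hwb : tt ∣ (w : N) * b := by
          rw [show (w : N) * b = (g : N) * tt ^ (p + 1) * ee ^ q - a by linear_combination hrel]
          exact dvd_sub (((dvd_pow_self _ (by omega)).mul_left _).mul_right _) h
        exact htb (w.isUnit.dvd_mul_left.mp hwb)
      have hat : L a tt = L tt b := by
        rw [L_comm tt b]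
        refine L_eq_of_mem (Ideal.mem_span_pair.mpr ⟨-(w : N), (g : N) * tt ^ p * ee ^ q, by
          linear_combination -hrel⟩) (right_mem_pair _ _) (Ideal.mem_span_pair.mpr
          ⟨-(↑w⁻¹ : N), ↑w⁻¹ * g * tt ^ p * ee ^ q, by
            linear_combination (-(↑w⁻¹ : N)) * hrel + b * w.inv_mul⟩) (right_mem_pair _ _)
      rw [L_pow (regular_mod htr htp hta), hat, heq]
    rw [h1, h2, h3, h4, h5]
    push_cast
    ring
  · exact Ideal.mem_span_pair.mpr ⟨↑g⁻¹ * ee, ↑g⁻¹ * w * tt, by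
      linear_combination (↑g⁻¹ * ee * tt : N) * hrel + (tt ^ (p + 1) * ee ^ (q + 1)) * g.inv_mul⟩

theorem length_stab_dvd (hπ : Irreducible π) (i₁ i₂ p q : ℕ) (hp : j = i₁ + (p + 1))
    (hq : j = i₂ + (q + 1)) (hγ : IsUnit γ) (σ : N ≃+* N)
    (hσB : ∀ c : B, σ (ι c) - ι c ∈ Ideal.span ({ι (π ^ j)} : Set N))
    (hσπ : σ (ι π) = ι (π + γ * π ^ j)) (α β : Nˣ)
    (ht : σ tt = (α : N) * tt) (he : σ ee = (β : N) * ee) (a b : N)
    (ha : (α : N) - 1 = tt ^ i₁ * ee ^ i₂ * a) (hb : (β : N) - 1 = tt ^ i₁ * ee ^ i₂ * b)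
    (hea : ¬ ee ∣ a) (htb : ¬ tt ∣ b) :
    fixIdeal σ = Ideal.span ({tt ^ i₁ * ee ^ i₂ * (a * tt), tt ^ i₁ * ee ^ i₂ * (b * ee)} : Set N) ∧
      L (a * tt) (b * ee) = 1 + (p + 1 : ℕ) * L tt b + (q + 1 : ℕ) * L ee a := by
  let D := dvrData B hπ
  set c := tt ^ i₁ * ee ^ i₂ with hc
  have hcr : IsRegular c := ((t_regular hπ.ne_zero).pow i₁).mul ((e_regular hπ.ne_zero).pow i₂)
  have hab : (α : N) * β = 1 + ι γ * c * tt ^ p * ee ^ q :=
    (pi_regular (a := π) hπ.ne_zero).left (show ι π * ((α : N) * β) = ι π * _ by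
      have h := hσπ
      rw [← te, map_mul, ht, he, map_add, map_mul, map_pow, ← te, mul_pow] at h
      nth_rw 1 [hp] at h
      rw [hq] at h
      rw [← te, hc]
      linear_combination h)
  obtain ⟨g, hg⟩ := hγ.map ι
  have hrel : a + (α : N) * b = (g : N) * tt ^ p * ee ^ q := by
    refine hcr.left (show c * _ = c * _ from ?_)
    rw [hg]
    linear_combination hab - ha - (α : N) * hb
  obtain ⟨hL, hmem⟩ := length_core hπ α g p q hrel hea htb
  refine ⟨le_antisymm (D.fixIdeal_le σ _ ?_ ?_ fun b' => ?_) (span_pair_le ?_ ?_), hL⟩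
  · rw [ht, show (α : N) * tt - tt = c * (a * tt) by linear_combination tt * ha]
    exact left_mem_pair _ _
  · rw [he, show (β : N) * ee - ee = c * (b * ee) by linear_combination ee * hb]
    exact right_mem_pair _ _
  · refine Ideal.span_le.mpr (Set.singleton_subset_iff.mpr ?_) (hσB b')
    show ι (π ^ j) ∈ Ideal.span ({c * (a * tt), c * (b * ee)} : Set N)
    obtain ⟨x, y, hxy⟩ := Ideal.mem_span_pair.mp hmem
    refine Ideal.mem_span_pair.mpr ⟨x, y, ?_⟩
    rw [map_pow, ← te, mul_pow]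
    nth_rw 1 [hp]
    rw [hq, hc]
    linear_combination (tt ^ i₁ * ee ^ i₂) * hxy
  · rw [show c * (a * tt) = (α : N) * tt - tt by linear_combination -(tt * ha), ← ht]
    exact sub_mem_fixIdeal σ tt
  · rw [show c * (b * ee) = (β : N) * ee - ee by linear_combination -(ee * hb), ← he]
    exact sub_mem_fixIdeal σ ee

theorem length_stab_pow (hπ : Irreducible π) (i₁ p : ℕ) (hp : j = i₁ + (p + 1))
    (hγ : IsUnit γ) (σ : N ≃+* N)
    (hσB : ∀ c : B, σ (ι c) - ι c ∈ Ideal.span ({ι (π ^ j)} : Set N))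
    (hσπ : σ (ι π) = ι (π + γ * π ^ j)) (α β : Nˣ)
    (ht : σ tt = (α : N) * tt) (he : σ ee = (β : N) * ee) (a b : N)
    (ha : (α : N) - 1 = tt ^ i₁ * ee ^ j * a) (hb : (β : N) - 1 = tt ^ i₁ * ee ^ (j - 1) * b)
    (htb : ¬ tt ∣ b) :
    fixIdeal σ = Ideal.span ({tt ^ i₁ * ee ^ j * (a * tt), tt ^ i₁ * ee ^ j * b} : Set N) ∧
      L (a * tt) b + (p : ℕ∞) = (p + 1 : ℕ) * L tt b := by
  let D := dvrData B hπ
  have htr := t_regular (a := π) hπ.ne_zero
  have her := e_regular (a := π) hπ.ne_zero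
  have htp := t_prime D.res D.res_a D.ker
  have hep := e_prime D.res D.res_a D.ker
  have hte : ¬ tt ∣ ee := not_t_dvd_e D.res D.res_a
  have het : ¬ ee ∣ tt := not_e_dvd_t D.res D.res_a
  obtain ⟨n, rfl⟩ : ∃ n, j = n + 1 := ⟨j - 1, by omega⟩
  rw [Nat.add_sub_cancel] at hb
  set c := tt ^ i₁ * ee ^ n with hc
  have hcr : IsRegular c := (htr.pow i₁).mul (her.pow n)
  have hab : (α : N) * β = 1 + ι γ * c * tt ^ p :=
    (pi_regular (a := π) hπ.ne_zero).left (show ι π * ((α : N) * β) = ι π * _ by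
      have h := hσπ
      rw [← te, map_mul, ht, he, map_add, map_mul, map_pow, ← te, mul_pow] at h
      nth_rw 1 [show n + 1 = i₁ + (p + 1) from hp] at h
      rw [← te, hc]
      linear_combination h)
  obtain ⟨g, hg⟩ := hγ.map ι
  have hrel : ee * a + (α : N) * b = (g : N) * tt ^ p := by
    refine hcr.left (show c * _ = c * _ from ?_)
    rw [hg]
    linear_combination hab - ha - (α : N) * hb
  constructor
  · refine le_antisymm (D.fixIdeal_le σ _ ?_ ?_ fun b' => ?_) (span_pair_le ?_ ?_)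
    · rw [ht, show (α : N) * tt - tt = tt ^ i₁ * ee ^ (n + 1) * (a * tt) by linear_combination tt * ha]
      exact left_mem_pair _ _
    · rw [he, show (β : N) * ee - ee = tt ^ i₁ * ee ^ (n + 1) * b by
        rw [hc] at hb; linear_combination ee * hb]
      exact right_mem_pair _ _
    · refine Ideal.span_le.mpr (Set.singleton_subset_iff.mpr ?_) (hσB b')
      show ι (π ^ (n + 1)) ∈ _
      refine Ideal.mem_span_pair.mpr ⟨↑g⁻¹ * ee, ↑g⁻¹ * α * tt, ?_⟩
      rw [map_pow, ← te, mul_pow]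
      nth_rw 3 [show n + 1 = i₁ + (p + 1) from hp]
      linear_combination (↑g⁻¹ * tt ^ (i₁ + 1) * ee ^ (n + 1) : N) * hrel
        + (tt ^ (i₁ + (p + 1)) * ee ^ (n + 1)) * g.inv_mul
    · rw [show tt ^ i₁ * ee ^ (n + 1) * (a * tt) = (α : N) * tt - tt by linear_combination -(tt * ha), ← ht]
      exact sub_mem_fixIdeal σ tt
    · rw [show tt ^ i₁ * ee ^ (n + 1) * b = (β : N) * ee - ee by
        rw [hc] at hb; linear_combination -(ee * hb), ← he]
      exact sub_mem_fixIdeal σ ee
  · have h1 : L (a * tt) b = L tt b + L a b := by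
      rw [L_comm, mul_comm a, L_mul (regular_mod htr htp htb), L_comm b tt, L_comm b a]
    have h2 : L a b = L a (tt ^ p) := by
      refine L_eq_of_mem (left_mem_pair _ _) ?_ (left_mem_pair _ _) ?_
      · exact Ideal.mem_span_pair.mpr ⟨-(↑α⁻¹ * ee : N), ↑α⁻¹ * g, by
          linear_combination (-(↑α⁻¹ : N)) * hrel + b * α.inv_mul⟩
      · exact Ideal.mem_span_pair.mpr ⟨(↑g⁻¹ : N) * ee, ↑g⁻¹ * α, by
          linear_combination (↑g⁻¹ : N) * hrel + (tt ^ p) * g.inv_mul⟩
    rcases Nat.eq_zero_or_pos p with rfl | hp'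
    · rw [h1, h2, pow_zero, L_isUnit a isUnit_one]
      simp
    obtain ⟨p, rfl⟩ := Nat.exists_eq_add_of_le' hp'
    have hta : ¬ tt ∣ a := fun h => by
      have hwb : tt ∣ (α : N) * b := by
        rw [show (α : N) * b = (g : N) * tt ^ (p + 1) - ee * a by linear_combination hrel]
        exact dvd_sub ((dvd_pow_self _ (by omega)).mul_left _) (h.mul_left _)
      exact htb (α.isUnit.dvd_mul_left.mp hwb)
    have h3 : L tt b = 1 + L tt a := by
      rw [L_eq_of_mem (a' := tt) (b' := ee * a) (left_mem_pair _ _) ?_ (left_mem_pair _ _) ?_,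
        L_mul (regular_mod her hep het), D.L_t_e]
      · exact Ideal.mem_span_pair.mpr ⟨↑α⁻¹ * g * tt ^ p, -(↑α⁻¹ : N), by
          linear_combination (-(↑α⁻¹ : N)) * hrel + b * α.inv_mul⟩
      · exact Ideal.mem_span_pair.mpr ⟨(g : N) * tt ^ p, -(α : N), by linear_combination -hrel⟩
    rw [h1, h2, ← mul_one (tt ^ (p + 1)), L_pow (regular_mod htr htp hta), L_isUnit a isUnit_one,
      L_comm a tt, h3]
    push_cast
    ring

end Dvr

theorem length_branches {k : Type u} [Field k] (σ : NodeAlg k 0 ≃ₐ[k] NodeAlg k 0)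
    (α β : (NodeAlg k 0)ˣ) (ht : σ (NodeAlg.t (0 : k)) = (α : NodeAlg k 0) * NodeAlg.t (0 : k))
    (he : σ (NodeAlg.e (0 : k)) = (β : NodeAlg k 0) * NodeAlg.e (0 : k)) :
    Module.length (NodeAlg k 0) (NodeAlg k 0 ⧸ fixIdeal σ) + 1 =
      Module.length (NodeAlg k 0) (NodeAlg k 0 ⧸ (fixIdeal σ ⊔ Ideal.span ({NodeAlg.t (0 : k)} : Set (NodeAlg k 0)))) +
        Module.length (NodeAlg k 0) (NodeAlg k 0 ⧸ (fixIdeal σ ⊔ Ideal.span ({NodeAlg.e (0 : k)} : Set (NodeAlg k 0)))) := by
  let D := fieldData k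
  set T := NodeAlg.t (0 : k)
  set W := NodeAlg.e (0 : k)
  have hI : fixIdeal σ = Ideal.span ({σ T - T, σ W - W} : Set (NodeAlg k 0)) :=
    le_antisymm (D.fixIdeal_le σ _ (left_mem_pair _ _) (right_mem_pair _ _)
      fun b => by rw [AlgEquiv.commutes, sub_self]; exact zero_mem _)
      (span_pair_le (sub_mem_fixIdeal σ T) (sub_mem_fixIdeal σ W))
  set I := fixIdeal σ
  set J := Ideal.span ({T, W} : Set (NodeAlg k 0))
  have hIJ : I ≤ J := by
    rw [hI]
    refine span_pair_le ?_ ?_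
    · rw [ht]; exact sub_mem (Ideal.mul_mem_left _ _ (left_mem_pair _ _)) (left_mem_pair _ _)
    · rw [he]; exact sub_mem (Ideal.mul_mem_left _ _ (right_mem_pair _ _)) (right_mem_pair _ _)
  have h1 : I ⊔ Ideal.span {T} ≤ J :=
    sup_le hIJ (Ideal.span_le.mpr (Set.singleton_subset_iff.mpr (left_mem_pair _ _)))
  have h2 : I ⊔ Ideal.span {W} ≤ J :=
    sup_le hIJ (Ideal.span_le.mpr (Set.singleton_subset_iff.mpr (right_mem_pair _ _)))
  have hT : I ≤ I ⊔ Ideal.span {T} := le_sup_left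
  have hW : I ≤ I ⊔ Ideal.span {W} := le_sup_left
  let f := (Submodule.factor hT).prod (Submodule.factor hW)
  let g := (Submodule.factor h1).comp (LinearMap.fst (NodeAlg k 0) _ _) -
    (Submodule.factor h2).comp (LinearMap.snd (NodeAlg k 0) _ _)
  have hg : Function.Surjective g := fun z => by
    obtain ⟨z, rfl⟩ := Submodule.Quotient.mk_surjective _ z
    refine ⟨(Submodule.Quotient.mk z, 0), ?_⟩
    simp [g]
  have hf : Function.Injective f := by
    rw [injective_iff_map_eq_zero]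
    intro x hx
    obtain ⟨x, rfl⟩ := Submodule.Quotient.mk_surjective _ x
    obtain ⟨i, hi, z, hz, rfl⟩ :=
      Submodule.mem_sup.mp ((Submodule.Quotient.mk_eq_zero _).mp (congrArg Prod.fst hx))
    obtain ⟨i', hi', z', hz', heq⟩ :=
      Submodule.mem_sup.mp ((Submodule.Quotient.mk_eq_zero _).mp (congrArg Prod.snd hx))
    simp only [LinearMap.id_coe, id_eq] at heq
    obtain ⟨r, rfl⟩ := Ideal.mem_span_singleton.mp hz
    obtain ⟨s, rfl⟩ := Ideal.mem_span_singleton.mp hz'
    have hd : i - i' ∈ I := sub_mem hi hi'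
    rw [hI, ht, he] at hd
    obtain ⟨c, d, hcd⟩ := Ideal.mem_span_pair.mp hd
    have hzero : T * W = 0 := by rw [t_mul_e, map_zero]
    obtain ⟨v, hv⟩ : T ∣ W * (s - d * ((β : NodeAlg k 0) - 1)) := ⟨r + c * ((α : NodeAlg k 0) - 1), by
      linear_combination heq - hcd⟩
    obtain ⟨w, hw⟩ := (t_prime D.res D.res_a D.ker _ _ ⟨v, hv⟩).resolve_left
      (not_t_dvd_e D.res D.res_a)
    rw [Submodule.Quotient.mk_eq_zero, ← heq]
    refine add_mem hi' ?_
    rw [show W * s = d * ((β : NodeAlg k 0) * W - W) + T * W * w by linear_combination W * hw, hzero, zero_mul,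
      add_zero, ← he]
    exact Ideal.mul_mem_left _ _ (sub_mem_fixIdeal σ W)
  have hex : Function.Exact f g := by
    rintro ⟨x, y⟩
    obtain ⟨x, rfl⟩ := Submodule.Quotient.mk_surjective _ x
    obtain ⟨y, rfl⟩ := Submodule.Quotient.mk_surjective _ y
    constructor
    · intro hxy
      have hm : x - y ∈ J := (Submodule.Quotient.eq J).mp (sub_eq_zero.mp hxy)
      obtain ⟨r, s, hrs⟩ := Ideal.mem_span_pair.mp hm
      refine ⟨Submodule.Quotient.mk (x - r * T), Prod.ext ((Submodule.Quotient.eq _).mpr ?_)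
        ((Submodule.Quotient.eq _).mpr ?_)⟩
      · simp only [LinearMap.id_coe, id_eq]
        exact Submodule.mem_sup_right (Ideal.mem_span_singleton.mpr ⟨-r, by ring⟩)
      · simp only [LinearMap.id_coe, id_eq]
        exact Submodule.mem_sup_right (Ideal.mem_span_singleton.mpr ⟨s, by linear_combination -hrs⟩)
    · rintro ⟨z, hz⟩
      obtain ⟨z, rfl⟩ := Submodule.Quotient.mk_surjective _ z
      rw [← hz]
      simp [f, g]
  have := Module.length_eq_add_of_exact f g hf hg hex
  rw [Module.length_prod, show Module.length (NodeAlg k 0) (NodeAlg k 0 ⧸ J) = 1 from D.L_t_e] at this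
  exact this.symm

/-! ## The smooth point -/

section PS

variable {B : Type u} [CommRing B] [IsDomain B] [IsDiscreteValuationRing B] {π : B}

local notation "P" => PowerSeries B
local notation "ι" => algebraMap B (PowerSeries B)

theorem ps_fixIdeal_le (σ : P ≃+* P) (J : Ideal P) (hX : σ PowerSeries.X - PowerSeries.X ∈ J)
    (hB : ∀ b, σ (ι b) - ι b ∈ J) : fixIdeal σ ≤ J := by
  have key : ∀ n r, σ r - r ∈ J ⊔ IsLocalRing.maximalIdeal P ^ n := by
    intro n
    induction n with
    | zero => intro r; simp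
    | succ n ih =>
      intro r
      obtain ⟨b, y, rfl⟩ : ∃ b y, r = ι b + PowerSeries.X * y :=
        ⟨_, _, (PowerSeries.eq_X_mul_shift_add_const r).trans (add_comm _ _)⟩
      obtain ⟨i, hi, w, hw, heq⟩ := Submodule.mem_sup.mp (ih y)
      have h2 : PowerSeries.X * (σ y - y) ∈ J ⊔ IsLocalRing.maximalIdeal P ^ (n + 1) := by
        rw [← heq, mul_add, pow_succ']
        exact Submodule.add_mem_sup (Ideal.mul_mem_left _ _ hi)
          (Ideal.mul_mem_mul PowerSeries.X_prime.not_isUnit hw)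
      convert add_mem (Submodule.mem_sup_left (add_mem (hB b) (Ideal.mul_mem_right (σ y) J hX))) h2 using 1
      simp only [map_add, map_mul]
      ring
  refine Ideal.span_le.mpr ?_
  rintro _ ⟨r, rfl⟩
  exact mem_of_forall_mem_sup_pow J fun n => key n r

theorem map_residue_eq_zero_iff (hπ : Irreducible π) (f : P) :
    PowerSeries.map (IsLocalRing.residue B) f = 0 ↔ ι π ∣ f := by
  constructor
  · intro h
    have hc : ∀ n, π ∣ PowerSeries.coeff n f := fun n => (dvrData B hπ).ker _ (by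
      have := congrArg (PowerSeries.coeff n) h
      rwa [PowerSeries.coeff_map, map_zero] at this)
    choose c hc using hc
    refine ⟨PowerSeries.mk c, PowerSeries.ext fun n => ?_⟩
    rw [show ι π = PowerSeries.C π from rfl, PowerSeries.coeff_C_mul, PowerSeries.coeff_mk, ← hc]
  · rintro ⟨g, rfl⟩
    rw [map_mul, show ι π = PowerSeries.C π from rfl, PowerSeries.map_C,
      show IsLocalRing.residue B π = 0 from (dvrData B hπ).res_a, map_zero, zero_mul]

theorem ps_length (hπ : Irreducible π) (f : P) (hf : ¬ ι π ∣ f) (n : ℕ) :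
    L f (ι π ^ n) = (n : ℕ∞) *
      Module.length (PowerSeries (IsLocalRing.ResidueField B)) (PowerSeries (IsLocalRing.ResidueField B) ⧸
        Ideal.span ({PowerSeries.map (IsLocalRing.residue B) f} : Set (PowerSeries (IsLocalRing.ResidueField B)))) := by
  have hι0 : ι π ≠ 0 := fun h => hπ.ne_zero (by
    have h' : (PowerSeries.C π : P) = 0 := h
    simpa using congrArg PowerSeries.constantCoeff h')
  have hreg : ∀ z, f ∣ ι π * z → f ∣ z := regular_mod (IsRegular.of_ne_zero hι0) (fun p q => by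
    simp only [← map_residue_eq_zero_iff hπ, map_mul, mul_eq_zero, imp_self]) hf
  have hsurj : Function.Surjective (PowerSeries.map (IsLocalRing.residue B)) := fun p => by
    choose c hc using fun n => IsLocalRing.residue_surjective (PowerSeries.coeff n p)
    exact ⟨PowerSeries.mk c, PowerSeries.ext fun n => by simp [hc]⟩
  have h1 : L f (ι π) = Module.length (PowerSeries (IsLocalRing.ResidueField B))
      (PowerSeries (IsLocalRing.ResidueField B) ⧸
        Ideal.span ({PowerSeries.map (IsLocalRing.residue B) f} : Set (PowerSeries (IsLocalRing.ResidueField B)))) := by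
    refine length_quot_map _ hsurj _ _ ?_
    ext z
    rw [Ideal.mem_comap, Ideal.mem_span_singleton, Ideal.mem_span_pair]
    constructor
    · rintro ⟨q, hq⟩
      obtain ⟨q, rfl⟩ := hsurj q
      obtain ⟨r, hr⟩ := (map_residue_eq_zero_iff hπ (z - f * q)).mp (by rw [map_sub, map_mul, hq, sub_self])
      exact ⟨q, r, by linear_combination -hr⟩
    · rintro ⟨p, q, rfl⟩
      refine ⟨PowerSeries.map (IsLocalRing.residue B) p, ?_⟩
      rw [map_add, map_mul, map_mul, (map_residue_eq_zero_iff hπ _).mpr dvd_rfl, mul_zero, add_zero, mul_comm]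
  rw [← mul_one (ι π ^ n), L_pow hreg, h1, L_isUnit f isUnit_one, add_zero]

theorem ps_fix_eq {j : ℕ} {γ : B} (hγ : IsUnit γ) (σ : P ≃+* P)
    (hσB : ∀ b : B, σ (ι b) - ι b ∈ Ideal.span ({ι (π ^ j)} : Set P))
    (hσπ : σ (ι π) = ι (π + γ * π ^ j)) :
    fixIdeal σ = Ideal.span ({σ PowerSeries.X - PowerSeries.X, ι π ^ j} : Set P) := by
  refine le_antisymm (ps_fixIdeal_le σ _ (left_mem_pair _ _) fun b => ?_)
    (span_pair_le (sub_mem_fixIdeal σ _) ?_)
  · refine Ideal.span_le.mpr (Set.singleton_subset_iff.mpr ?_) (hσB b)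
    rw [SetLike.mem_coe, map_pow]; exact right_mem_pair _ _
  · obtain ⟨g, hg⟩ := hγ.map ι
    have := sub_mem_fixIdeal σ (ι π)
    rw [hσπ, map_add, map_mul, map_pow, add_sub_cancel_left, ← hg] at this
    simpa using Ideal.mul_mem_left _ (↑g⁻¹ : P) this

end PS

end GrothLib.NodeAlg
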